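import Groth.Agent.FittX.StrictSheaf
import Groth.Agent.KFlatLib.Scheme.Pullback
import Groth.Prelude.Def_FlatMod2

/-!
# A module flat along the centre has no exceptional torsion after blowing up
-/

universe u

set_option autoImplicit false
set_option linter.style.haveILetI false
set_option backward.isDefEq.respectTransparency false
set_option backward.isDefEq.respectTransparency.types false

open CategoryTheory CategoryTheory.Limits AlgebraicGeometry TopologicalSpace Opposite TensorProduct
open Scheme (IdealSheafData)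

namespace Groth.Agent.StrictFlat

variable {X Y : Scheme.{u}}

/-- Multiplication by a regular or invertible element on the stalk of a pullback is injective. -/
theorem smul_injective_stalk_pullback (f : X ⟶ Y) (F : Y.Modules) (x : X) (r : X.presheaf.stalk x)
    (h : IsUnit r ∨ (r ∈ nonZeroDivisors (X.presheaf.stalk x) ∧ FlatMod.IsFlatAt F (f x))) :
    Function.Injective
      fun m : (((Scheme.Modules.pullback f).obj F).presheaf.stalk x : Type u) => r • m := by
  rcases h with h | ⟨hr, hF⟩
  · exact fun a b hab => (IsUnit.smul_left_cancel h).1 hab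
  letI : Algebra (Y.presheaf.stalk (f x)) (X.presheaf.stalk x) := (f.stalkMap x).hom.toAlgebra
  let N : ModuleCat.{u} (Y.presheaf.stalk (f x)) := (DerSch.stalkFunctor Y (f x)).obj F
  let e := ((KFlatLib.stalkPullbackIso f x).app F).toLinearEquiv
  haveI : Module.Flat (Y.presheaf.stalk (f x)) N := hF
  let μ : X.presheaf.stalk x →ₗ[Y.presheaf.stalk (f x)] X.presheaf.stalk x := LinearMap.mulLeft _ r
  have hμ : Function.Injective μ := fun a b hab =>
    (mem_nonZeroDivisors_iff_right.1 hr (a - b) (by rw [sub_mul, sub_eq_zero, mul_comm a, mul_comm b]; exact hab)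
      |> sub_eq_zero.1)
  have hinj := Module.Flat.rTensor_preserves_injective_linearMap (M := N) μ hμ
  have key : ∀ z : X.presheaf.stalk x ⊗[Y.presheaf.stalk (f x)] N, μ.rTensor N z = r • z := fun z => by
    induction z using TensorProduct.induction_on with
    | zero => simp
    | tmul a m => rw [LinearMap.rTensor_tmul, TensorProduct.smul_tmul']; rfl
    | add a b ha hb => rw [map_add, ha, hb, smul_add]
  intro a b hab
  refine e.injective (hinj ?_)
  rw [key, key]
  exact ((e.map_smul r a).symm.trans (congrArg e hab)).trans (e.map_smul r b)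

theorem germ_mem_nonZeroDivisors {U : X.Opens} (hU : IsAffineOpen U) {a : Γ(X, U)}
    (ha : a ∈ nonZeroDivisors Γ(X, U)) {x : X} (hx : x ∈ U) :
    X.presheaf.germ U x hx a ∈ nonZeroDivisors (X.presheaf.stalk x) := by
  letI := X.presheaf.algebra_section_stalk ⟨x, hx⟩
  haveI := hU.isLocalization_stalk ⟨x, hx⟩
  exact IsLocalization.map_nonZeroDivisors_le (hU.primeIdealOf ⟨x, hx⟩).asIdeal.primeCompl
    (X.presheaf.stalk x) ⟨a, ha, rfl⟩

/-- The pullback of a module flat at the points of the centre has no exceptional torsion. -/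
theorem eq_zero_of_killed {S' : Scheme.{u}} {S : Scheme.{u}} (𝓘 : S.IdealSheafData) (b : S' ⟶ S)
    (hb : BlowUp.IsEffCartierIdeal (𝓘.comap b)) (F : S.Modules)
    (hflat : ∀ s : ↥S, s ∈ 𝓘.support → FlatMod.IsFlatAt F s) (V : S'.affineOpens)
    (m : Γ((Scheme.Modules.pullback b).obj F, V.1))
    (hm : BlowUp.KilledByPowerNear (BlowUp.exceptional b 𝓘) ((Scheme.Modules.pullback b).obj F) V m) :
    m = 0 := by
  let M := (Scheme.Modules.pullback b).obj F
  refine TopCat.Presheaf.section_ext (⟨M.presheaf, M.isSheaf⟩ : TopCat.Sheaf _ _) V.1 m 0 fun q hq => ?_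
  rw [map_zero]
  obtain ⟨n, hn⟩ := hm
  obtain ⟨U, hqU, a, hanzd, ha⟩ := hb q
  obtain ⟨W, hW, hqW, hWle⟩ := exists_isAffineOpen_mem_and_subset (x := q) (U := V.1 ⊓ U.1) ⟨hq, hqU⟩
  let W' : S'.affineOpens := ⟨W, hW⟩
  have hV : W' ≤ V := fun z hz => (hWle hz).1
  have hU : W' ≤ U := fun z hz => (hWle hz).2
  let aW : Γ(S', W) := S'.presheaf.map (homOfLE hU).op a
  have hmem : aW ^ n ∈ ((BlowUp.exceptional b 𝓘) ^ n).ideal W' := by
    rw [← IdealSheafData.map_ideal _ hU, IdealSheafData.ideal_pow, Pi.pow_apply, ha, Ideal.span_singleton_pow,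
      ← map_pow]
    exact Ideal.mem_map_of_mem _ (Ideal.mem_span_singleton_self _)
  have hzero : aW ^ n • M.presheaf.map (homOfLE hV).op m = 0 := by
    rw [← IdealSheafData.map_ideal _ hV, Ideal.map] at hmem
    generalize aW ^ n = w at hmem ⊢
    induction hmem using Submodule.span_induction with
    | mem z hz =>
      obtain ⟨c, hc, rfl⟩ := hz
      exact ((QCoh.map_smul' (M := M) (homOfLE hV) c m).symm.trans
        ((congrArg _ (hn c hc)).trans (map_zero _)))
    | zero => exact zero_smul _ _
    | add z w _ _ hz hw => rw [add_smul, hz, hw, add_zero]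
    | smul c z _ hz => rw [smul_eq_mul, mul_smul, hz, smul_zero]
  have hcase : IsUnit (S'.presheaf.germ W q hqW aW ^ n) ∨
      (S'.presheaf.germ W q hqW aW ^ n ∈ nonZeroDivisors (S'.presheaf.stalk q) ∧
        FlatMod.IsFlatAt F (b q)) := by
    have hg : S'.presheaf.germ W q hqW aW = S'.presheaf.germ U.1 q hqU a :=
      TopCat.Presheaf.germ_res_apply _ _ _ _ _
    rw [hg]
    by_cases hs : b q ∈ 𝓘.support
    · exact Or.inr ⟨pow_mem (germ_mem_nonZeroDivisors U.2 hanzd hqU) n, hflat _ hs⟩
    refine Or.inl (IsUnit.pow n (not_not.1 fun hu => hs ?_))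
    have : q ∈ (𝓘.comap b).support := by
      rw [IdealSheafData.mem_support_iff_of_mem (U := U) hqU, ha]
      rw [Scheme.zeroLocus_span, Scheme.mem_zeroLocus_iff]
      intro g hg'
      obtain rfl : g = a := hg'
      exact fun h => hu ((S'.mem_basicOpen g q hqU).1 h)
    rw [← SetLike.mem_coe, IdealSheafData.support_comap] at this
    exact this
  have h0 : S'.presheaf.germ W q hqW aW ^ n • M.presheaf.germ W q hqW (M.presheaf.map (homOfLE hV).op m) = 0 := by
    rw [← map_pow]; exact ((PresheafOfModules.germ_smul (R := S'.presheaf) (show PresheafOfModules (S'.presheaf ⋙ forget₂ CommRingCat RingCat) from M.val) q W hqW _ _).symm.trans ((congrArg _ hzero).trans (map_zero _)))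
  have := smul_injective_stalk_pullback b F q _ hcase
    (show _ • M.presheaf.germ W q hqW (M.presheaf.map (homOfLE hV).op m) =
      S'.presheaf.germ W q hqW aW ^ n • (0 : (M.presheaf.stalk q : Type u)) from h0.trans (smul_zero _).symm)
  exact (TopCat.Presheaf.germ_res_apply _ _ _ _ _).symm.trans this

end Groth.Agent.StrictFlat
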